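import Mathlib

/-!
# Orbits on cosets from labels, and their transport along isomorphisms
-/

set_option autoImplicit false

namespace Cfsg.Agent.J4Type.Suborbit

open Subgroup

variable {J G : Type*} [Group J] [Group G] {n : ℕ}

/-- Orbits given by an invariant labelling with a representative of each label. -/
theorem orbit_label {Q : Type*} [Group Q] (f : Q →* J) (R : Subgroup J) (hf : f.range = R)
    (pt : Fin n → J ⧸ R) (label : J ⧸ R → Fin n) (hinv : ∀ q z, label (f q • z) = label z)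
    (hreach : ∀ z, ∃ q : Q, z = f q • pt (label z))
    (hne : ∀ m, Nat.card {z // label z = m} ≠ 0) (m : Fin n) :
    MulAction.orbit ↥R (pt m) = {z | label z = m} := by
  obtain ⟨⟨z₀, hz₀⟩⟩ := (Nat.card_ne_zero.1 (hne m)).1
  obtain ⟨q₀, hq₀⟩ := hreach z₀
  have hlab : label (pt m) = m := by
    rw [hz₀] at hq₀
    rw [hq₀, hinv] at hz₀
    exact hz₀
  ext z
  constructor
  · rintro ⟨⟨r, hr⟩, rfl⟩
    obtain ⟨q, rfl⟩ := hf.ge hr
    exact (hinv q _).trans hlab
  · intro hz
    obtain ⟨q, hq⟩ := hreach z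
    rw [Set.mem_ofPred_eq.mp hz] at hq
    exact ⟨⟨f q, hf.le ⟨q, rfl⟩⟩, hq.symm⟩

/-- The suborbits of a conjugate image. -/
theorem transport (ψ : J ≃* G) (R : Subgroup J) (N : Subgroup G)
    (hN : N = R.map ψ.toMonoidHom) (pt : Fin n → J ⧸ R) (label : J ⧸ R → Fin n)
    (idx : Fin n → ℕ) (horb : ∀ m, MulAction.orbit ↥R (pt m) = {z | label z = m})
    (hcard : ∀ m, Nat.card {z // label z = m} = idx m) :
    N.index = R.index ∧ ∃ c : Fin n → G ⧸ N,
      (∀ i j, i ≠ j → MulAction.orbit ↥N (c i) ≠ MulAction.orbit ↥N (c j)) ∧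
      (∀ q, ∃ i, q ∈ MulAction.orbit ↥N (c i)) ∧
      (∀ i, (MulAction.orbit ↥N (c i)).ncard = idx i) := by
  subst hN
  refine ⟨index_map_of_bijective (f := ψ.toMonoidHom) ψ.bijective R, ?_⟩
  let e : J ⧸ R ≃ G ⧸ R.map ψ.toMonoidHom := Quotient.congr ψ.toEquiv fun a b => by
    simp only [QuotientGroup.leftRel_apply, mem_map]
    constructor
    · intro h
      exact ⟨a⁻¹ * b, h, by simp⟩
    · rintro ⟨x, hx, he⟩
      have : x = a⁻¹ * b := ψ.injective (by simpa using he)
      exact this ▸ hx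
  have hsmul : ∀ (j : J) z, e (j • z) = ψ j • e z := by
    intro j z
    induction z using QuotientGroup.induction_on with
    | _ a =>
      show (QuotientGroup.mk (ψ (j * a)) : G ⧸ R.map ψ.toMonoidHom) = QuotientGroup.mk (ψ j * ψ a)
      rw [map_mul]
  have horb' : ∀ m, MulAction.orbit ↥(R.map ψ.toMonoidHom) (e (pt m)) = e '' {z | label z = m} := by
    intro m
    rw [← horb m]
    ext w
    constructor
    · rintro ⟨⟨_, r, hr, rfl⟩, rfl⟩
      exact ⟨_, ⟨⟨r, hr⟩, rfl⟩, hsmul r _⟩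
    · rintro ⟨_, ⟨⟨r, hr⟩, rfl⟩, rfl⟩
      exact ⟨⟨ψ r, r, hr, rfl⟩, (hsmul r _).symm⟩
  refine ⟨fun i => e (pt i), fun i j hij h => ?_, fun q => ?_, fun i => ?_⟩
  · rw [horb', horb'] at h
    have hi : pt i ∈ {z | label z = i} := horb i ▸ MulAction.mem_orbit_self _
    have hj : pt i ∈ {z | label z = j} := e.injective.image_injective h ▸ hi
    exact hij (hi.symm.trans hj)
  · refine ⟨label (e.symm q), ?_⟩
    rw [horb']
    exact ⟨e.symm q, rfl, e.apply_symm_apply q⟩
  · show (MulAction.orbit ↥(R.map ψ.toMonoidHom) (e (pt i))).ncard = idx i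
    rw [horb' i, Set.ncard_image_of_injective _ e.injective, ← Nat.card_coe_set_eq]
    exact hcard i

end Cfsg.Agent.J4Type.Suborbit
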