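import Cfsg.Agent.J4DC.Index
import Cfsg.Agent.DCoset.WalkOrbits
import Cfsg.Agent.J4Type.V11.Setup
import Cfsg.Agent.J4Type.V11.Transport
import Cfsg.Agent.J4Type.V11.Mathieu
import Cfsg.Agent.J4Type.Suborbit.Orbits

/-!
# The seven suborbits of `2 ^ 11 : M24` in a group of Janko-four type isomorphic to the model
-/

set_option autoImplicit false
set_option maxRecDepth 100000

open Cfsg Subgroup

namespace Cfsg.Agent.J4Type.Suborbit

open Cfsg.Agent.J4DC Cfsg.Agent.DCoset Cfsg.Agent.CosetCert

local notation "J" => Cfsg.Spor.J4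

theorem model_orbits :
    ∃ (pt : Fin 7 → J ⧸ iota.range) (label : J ⧸ iota.range → Fin 7),
      (∀ m, MulAction.orbit ↥iota.range (pt m) = {z | label z = m}) ∧
      ∀ m : Fin 7, Nat.card {z // label z = m} =
        [1, 15180, 28336, 3400320, 32643072, 54405120, 82575360].getD m 0 := by
  have := J4Aff.qaff_finite
  have hF : ∀ s, s < J4W.steps.len → J4W.steps.Holds J4W.rules (model9.toModel iota) iota.range tEl s :=
    Steps.holds sound (fun g _ => (⟨q9 g, rfl⟩ : iota (q9 g) ∈ iota.range)) J4W.node_src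
      (show 0 < 2 by norm_num) J4W.steps_ok
  have hgen : Subgroup.closure {x | ∃ g, g < J4W.cover.nG ∧ x = model9.q g} = ⊤ :=
    (show J4W.cover.nG = 4 from rfl) ▸ model9_gens
  have htot : ((List.range J4W.cover.nLive).map J4W.cover.idx).sum ≤ iota.range.index :=
    le_of_eq (J4W.idx_sum.trans index_iota.symm)
  obtain ⟨pt, label, hinv, hreach, hcard, -⟩ :=
    WalkCover.orbits (G := J) (C := J4W.cover) (D := J4W.steps) (L := J4W.rules) (P := model9)
      iota tEl J4Aff.qaff_card.le hgen range_gen sound J4W.valid hF htot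
  have hn : J4W.cover.nLive = 7 := rfl
  have hidx : ∀ m : Fin 7, J4W.cover.idx m.val =
      [1, 15180, 28336, 3400320, 32643072, 54405120, 82575360].getD m.val 0 := by
    intro m
    fin_cases m <;> decide +kernel
  have hkey : ∀ (m : Fin 7), Nat.card {z // Fin.cast hn (label z) = m} = J4W.cover.idx m.val := by
    intro m
    refine (Nat.card_congr (Equiv.subtypeEquivRight fun z => ?_)).trans (hcard (Fin.cast hn.symm m))
    simp [Fin.ext_iff]
  refine ⟨fun m => pt (Fin.cast hn.symm m), fun z => Fin.cast hn (label z), ?_,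
    fun m => (hkey m).trans (hidx m)⟩
  refine orbit_label iota iota.range rfl _ _ (fun q z => congrArg (Fin.cast hn) (hinv q z))
    (fun z => ?_) fun m => ?_
  · obtain ⟨q, hq⟩ := hreach z
    exact ⟨q, hq.trans (by simp)⟩
  · rw [hkey m, hidx m]
    fin_cases m <;> simp

theorem phi_inj : Function.Injective phi := fun a b h =>
  SemidirectProduct.inl_injective
    (J4Aff.injective iota24 phi phi_equiv hu
      (by rw [J4Aff.iotaOf_inl, J4Aff.iotaOf_inl, h]))

theorem iota_le_normalizer : iota.range ≤ normalizer (phi.range : Set J) := by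
  rintro _ ⟨a, rfl⟩
  refine Subgroup.mem_normalizer_iff.2 fun x => ?_
  have key : ∀ (b : J4Aff.QAff) (y : J), y ∈ phi.range → iota b * y * (iota b)⁻¹ ∈ phi.range := by
    rintro b _ ⟨v, rfl⟩
    refine ⟨(b * SemidirectProduct.inl v * b⁻¹).left, ?_⟩
    have hr : (b * SemidirectProduct.inl v * b⁻¹).right = 1 := by simp
    rw [show iota b * phi v * (iota b)⁻¹ = iota (b * SemidirectProduct.inl v * b⁻¹) by
        simp only [map_mul, map_inv, iota, J4Aff.iotaOf_inl],
      ← SemidirectProduct.inl_left_mul_inr_right (b * SemidirectProduct.inl v * b⁻¹), hr]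
    simp [iota, J4Aff.iotaOf_inl]
  constructor
  · exact key a x
  · intro h
    have h2 := key a⁻¹ _ h
    simpa [mul_assoc] using h2

variable {G : Type*} [Group G] [Finite G] [IsSimpleGroup G]

/-- In a group of Janko-four type isomorphic to the model, the normaliser of any elementary
abelian subgroup of order `2 ^ 11` is an image of the model's `2 ^ 11 : M24`. -/
theorem exists_equiv (hG : ¬ IsMulCommutative G) {z : G} (hJ : Cfsg.IsOfJankoFourTypeAt z)
    (φ : J ≃* G) {X : Subgroup G} (hX : Cfsg.IsElementaryAbelian 2 X)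
    (hc : Nat.card X = 2 ^ 11) :
    ∃ ψ : J ≃* G, normalizer (X : Set G) = iota.range.map ψ.toMonoidHom := by
  obtain ⟨P, hJ⟩ := hJ
  obtain ⟨B, S⟩ := V11.exists_sys hG hJ
  obtain ⟨F, hF⟩ := V11.Frame.exists_good S
  obtain ⟨g, hg⟩ := F.exists_conj_grp hX hc
  have hWel : Cfsg.IsElementaryAbelian 2 (phi.range.map φ.toMonoidHom) := by
    refine ⟨⟨⟨fun a b => Subtype.ext ?_⟩⟩, ?_⟩
    · obtain ⟨_, _, ⟨u, rfl⟩, rfl⟩ := a
      obtain ⟨_, _, ⟨v, rfl⟩, rfl⟩ := b
      show φ (phi u) * φ (phi v) = φ (phi v) * φ (phi u)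
      rw [← map_mul, ← map_mul, ← map_mul, ← map_mul, mul_comm]
    · rintro _ ⟨_, ⟨u, rfl⟩, rfl⟩
      show φ (phi u) ^ 2 = 1
      rw [← map_pow, ← map_pow, sq, show u * u = 1 from inv_mul_cancel u, map_one, map_one]
  have hWc : Nat.card ↥(phi.range.map φ.toMonoidHom) = 2 ^ 11 := by
    rw [card_map_of_injective φ.injective, ← Nat.card_congr (MonoidHom.ofInjective phi_inj).toEquiv,
      J4Aff.V.card]
    norm_num
  obtain ⟨g', hg'⟩ := F.exists_conj_grp hWel hWc
  have hle : iota.range.map φ.toMonoidHom ≤ normalizer (phi.range.map φ.toMonoidHom : Set G) :=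
    (map_mono iota_le_normalizer).trans (map_equiv_normalizer_eq phi.range φ).le
  rw [hg', F.normalizer_conj g'] at hle
  have heq : iota.range.map φ.toMonoidHom = F.nrm.map (V11.cj g') := by
    refine eq_of_le_of_card_ge hle ?_
    rw [card_map_of_injective (V11.cj_inj g'), F.card_nrm_eq hF,
      card_map_of_injective φ.injective, card_range_iota]
    norm_num
  refine ⟨φ.trans (MulAut.conj (g * g'⁻¹)), ?_⟩
  rw [hg, F.normalizer_conj g, show (φ.trans (MulAut.conj (g * g'⁻¹))).toMonoidHom =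
      (V11.cj (g * g'⁻¹)).comp φ.toMonoidHom from rfl, ← Subgroup.map_map, heq, Subgroup.map_map]
  congr 1
  ext x
  simp [V11.cj_apply, mul_assoc]

/-- The seven suborbits, given an isomorphism with the model. -/
theorem rank_seven (hG : ¬ IsMulCommutative G) {z : G} (hJ : Cfsg.IsOfJankoFourTypeAt z)
    (φ : J ≃* G) {V : Subgroup G} (hV : Cfsg.IsElementaryAbelian 2 V)
    (hc : Nat.card V = 2 ^ 11) :
    (normalizer (V : Set G)).index = 173067389 ∧
    ∃ c : Fin 7 → G ⧸ normalizer (V : Set G),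
      (∀ i j : Fin 7, i ≠ j → MulAction.orbit ↥(normalizer (V : Set G)) (c i) ≠
        MulAction.orbit ↥(normalizer (V : Set G)) (c j)) ∧
      (∀ q : G ⧸ normalizer (V : Set G), ∃ i : Fin 7,
        q ∈ MulAction.orbit ↥(normalizer (V : Set G)) (c i)) ∧
      (List.ofFn fun i => (MulAction.orbit ↥(normalizer (V : Set G)) (c i)).ncard) =
        [1, 15180, 28336, 3400320, 32643072, 54405120, 82575360] := by
  obtain ⟨ψ, hψ⟩ := exists_equiv hG hJ φ hV hc
  obtain ⟨pt, label, horb, hcard⟩ := model_orbits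
  obtain ⟨hi, c, h1, h2, h3⟩ := transport ψ iota.range (normalizer (V : Set G)) hψ pt label _
    horb hcard
  refine ⟨hi.trans index_iota, c, h1, h2, ?_⟩
  rw [funext h3]
  rfl

end Cfsg.Agent.J4Type.Suborbit
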